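import Mathlib.Topology.Covering.Basic
import Mathlib.Analysis.Normed.Field.Approximation
import Mathlib.Analysis.Complex.Polynomial.Basic
import Mathlib.FieldTheory.Separable
import Mathlib.Topology.Algebra.Polynomial

/-!
# The roots of a continuous family of separable monic polynomials form a covering space

`B` is any topological space, `P : B → ℂ[X]` a family of monic separable polynomials of the same degree `m` with
continuous coefficients.  Then `{(b, t) | P_b(t) = 0} → B` is a covering map, with fibres of `m` elements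
(`isCoveringMap_roots`, `card_fibre`).  Version on a subset of the base: `isCoveringMapOn_roots`.
-/

set_option autoImplicit false

namespace Groth.Agent.An.H526.RootCov

open Polynomial Topology Filter

variable {B : Type*} [TopologicalSpace B]

/-- Evaluation of a continuous family of polynomials of bounded degree is continuous. -/
theorem continuous_eval {P : B → ℂ[X]} {m : ℕ} (hd : ∀ b, (P b).natDegree ≤ m)
    (hc : ∀ i, Continuous fun b => (P b).coeff i) :
    Continuous fun q : B × ℂ => (P q.1).eval q.2 := by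
  have h : (fun q : B × ℂ => (P q.1).eval q.2) =
      fun q => ∑ i ∈ Finset.range (m + 1), (P q.1).coeff i * q.2 ^ i := by
    funext q
    exact Polynomial.eval_eq_sum_range' (Nat.lt_succ_of_le (hd q.1)) q.2
  rw [h]
  exact continuous_finsetSum _ fun i _ => ((hc i).comp continuous_fst).mul (continuous_snd.pow i)

/-- Continuity of roots: near `b0` there is a root of `P_b` near a given root of `P_{b0}`. -/
theorem exists_near_root {P : B → ℂ[X]} {m : ℕ} (hm : ∀ b, (P b).Monic)
    (hd : ∀ b, (P b).natDegree = m) (hc : ∀ i, Continuous fun b => (P b).coeff i)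
    (b0 : B) (a : ℂ) (ha : (P b0).eval a = 0) {ε : ℝ} (hε : 0 < ε) :
    ∀ᶠ b in 𝓝 b0, ∃ t, (P b).eval t = 0 ∧ ‖t - a‖ < ε := by
  have hcont : Continuous fun b => (P b).eval a :=
    (continuous_eval (fun b => (hd b).le) hc).comp (continuous_id.prodMk continuous_const)
  have h1 : ∀ᶠ b in 𝓝 b0, ‖(P b).eval a‖ < ε ^ m := by
    have : Tendsto (fun b => ‖(P b).eval a‖) (𝓝 b0) (𝓝 0) := by
      have := (hcont.norm).tendsto b0
      simpa [ha] using this
    exact this.eventually_lt_const (by positivity)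
  filter_upwards [h1] with b hb
  by_contra! hcon
  have hsp : (P b).Splits := IsAlgClosed.splits (P b)
  have h2 : (P b).eval a = ((P b).roots.map fun x => a - x).prod := by
    rw [hsp.eval_eq_prod_roots_of_monic (hm b)]
  have h3 : ‖(P b).eval a‖ = ((P b).roots.map fun x => ‖a - x‖).prod := by
    rw [h2]
    exact ((P b).roots.prod_hom' (NormedField.toMulRingNorm ℂ) (fun x : ℂ => a - x)).symm
  have h4 : ε ^ m ≤ ((P b).roots.map fun x => ‖a - x‖).prod := by
    have h5 := Multiset.prod_map_le_prod_map₀ (s := (P b).roots) (fun _ => ε) (fun x => ‖a - x‖)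
      (fun _ _ => hε.le) (fun x hx => by
        have := hcon x (Polynomial.isRoot_of_mem_roots hx)
        rwa [norm_sub_rev] at this)
    rwa [Multiset.map_const', Multiset.prod_replicate, ← hsp.natDegree_eq_card_roots, hd b] at h5
  rw [h3] at hb
  exact absurd hb (not_lt.2 h4)

theorem card_roots {P : ℂ[X]} (hs : P.Separable) :
    P.roots.toFinset.card = P.natDegree := by
  rw [Multiset.toFinset_card_of_nodup (Polynomial.nodup_roots hs),
    ← (IsAlgClosed.splits P).natDegree_eq_card_roots]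

/-- Around `b0` the roots of `P_b` are `ρ_i(b)`, `i` a root of `P_{b0}`, `ρ_i` continuous near `b0`, and
`ρ_i(b)` is the unique root in the disc of radius `ε` around `i`. -/
theorem exists_local {P : B → ℂ[X]} {m : ℕ} (hm : ∀ b, (P b).Monic)
    (hd : ∀ b, (P b).natDegree = m) (hc : ∀ i, Continuous fun b => (P b).coeff i)
    (b0 : B) (hs : (P b0).Separable) :
    ∃ (V : Set B) (ε : ℝ) (ρ : (P b0).roots.toFinset → V → ℂ), IsOpen V ∧ b0 ∈ V ∧ 0 < ε ∧
      (∀ i, Continuous (ρ i)) ∧
      (∀ (i : (P b0).roots.toFinset) (b : V), (P b).eval (ρ i b) = 0 ∧ ‖ρ i b - i‖ < ε) ∧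
      (∀ (b : V) (t : ℂ), (P b).eval t = 0 → ∃! i : (P b0).roots.toFinset, ‖t - i‖ < ε) ∧
      (∀ (i : (P b0).roots.toFinset) (b : V) (t : ℂ), (P b).eval t = 0 → ‖t - i‖ < ε →
        t = ρ i b) := by
  classical
  set r0 := (P b0).roots.toFinset with hr0
  have hmem : ∀ b t, t ∈ (P b).roots.toFinset ↔ (P b).eval t = 0 := fun b t => by
    rw [Multiset.mem_toFinset, Polynomial.mem_roots (hm b).ne_zero]; rfl
  obtain ⟨ε, hε, hεd⟩ : ∃ ε > 0, ∀ i ∈ r0, ∀ j ∈ r0, i ≠ j → 2 * ε < ‖i - j‖ := by
    by_cases hne : (r0 ×ˢ r0).filter (fun p => p.1 ≠ p.2) = ∅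
    · refine ⟨1, one_pos, fun i hi j hj hij => ?_⟩
      have h9 : (i, j) ∈ (r0 ×ˢ r0).filter (fun p => p.1 ≠ p.2) :=
        Finset.mem_filter.2 ⟨Finset.mem_product.2 ⟨hi, hj⟩, hij⟩
      rw [hne] at h9
      simp at h9
    · obtain ⟨p, hp, hmin⟩ := Finset.exists_min_image ((r0 ×ˢ r0).filter (fun p => p.1 ≠ p.2))
        (fun p => ‖p.1 - p.2‖) (Finset.nonempty_iff_ne_empty.2 hne)
      have hpos : 0 < ‖p.1 - p.2‖ := norm_pos_iff.2 (sub_ne_zero.2 (Finset.mem_filter.1 hp).2)
      refine ⟨‖p.1 - p.2‖ / 3, by positivity, fun i hi j hj hij => ?_⟩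
      have := hmin (i, j) (Finset.mem_filter.2 ⟨Finset.mem_product.2 ⟨hi, hj⟩, hij⟩)
      simp only at this
      linarith
  have hsep : ∀ i ∈ r0, ∀ j ∈ r0, ∀ t : ℂ, ‖t - i‖ < ε → ‖t - j‖ < ε → i = j := by
    intro i hi j hj t h1 h2
    by_contra hij
    have h3 := hεd i hi j hj hij
    have h4 : ‖i - j‖ ≤ ‖t - i‖ + ‖t - j‖ := by
      have : i - j = (t - j) - (t - i) := by ring
      rw [this]
      exact (norm_sub_le _ _).trans (by rw [add_comm])
    linarith
  have hev : ∀ᶠ b in 𝓝 b0, ∀ i ∈ r0, ∃ t, (P b).eval t = 0 ∧ ‖t - i‖ < ε := by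
    rw [Filter.eventually_all_finset]
    exact fun i hi => exists_near_root hm hd hc b0 i ((hmem b0 i).1 hi) hε
  obtain ⟨V, hVev, hVo, hbV⟩ := eventually_nhds_iff.1 hev
  have hex : ∀ (i : r0) (b : V), ∃ t, (P b).eval t = 0 ∧ ‖t - i‖ < ε := fun i b =>
    hVev b b.2 i i.2
  choose ρ hρ using hex
  -- all roots are of the form `ρ i b`
  have hinj : ∀ b : V, Function.Injective fun i => ρ i b := by
    intro b i j hij
    have hij' : ρ i b = ρ j b := hij
    refine Subtype.ext (hsep i i.2 j j.2 (ρ i b) (hρ i b).2 ?_)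
    rw [hij']; exact (hρ j b).2
  have himg : ∀ b : V, (P b).roots.toFinset = Finset.univ.image (fun i => ρ i b) := by
    intro b
    symm
    refine Finset.eq_of_subset_of_card_le ?_ ?_
    · intro t ht
      obtain ⟨i, -, rfl⟩ := Finset.mem_image.1 ht
      exact (hmem _ _).2 (hρ i b).1
    · rw [Finset.card_image_of_injective _ (hinj b), Finset.card_univ, Fintype.card_coe, hr0,
        card_roots hs, hd]
      calc (P b).roots.toFinset.card ≤ Multiset.card (P b).roots := Multiset.toFinset_card_le _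
        _ ≤ (P b).natDegree := Polynomial.card_roots' _
        _ = m := hd b
  have hall : ∀ (b : V) (t : ℂ), (P b).eval t = 0 → ∃ i, t = ρ i b := by
    intro b t ht
    have := (hmem b t).2 ht
    rw [himg b] at this
    obtain ⟨i, -, hi⟩ := Finset.mem_image.1 this
    exact ⟨i, hi.symm⟩
  have huniq : ∀ (i : r0) (b : V) (t : ℂ), (P b).eval t = 0 → ‖t - i‖ < ε → t = ρ i b := by
    intro i b t ht hti
    obtain ⟨j, rfl⟩ := hall b t ht
    have : j = i := Subtype.ext (hsep j j.2 i i.2 _ (hρ j b).2 hti)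
    rw [this]
  refine ⟨V, ε, ρ, hVo, hbV, hε, ?_, hρ, ?_, huniq⟩
  · intro i
    rw [continuous_iff_continuousAt]
    intro b1
    rw [Metric.continuousAt_iff']
    intro δ hδ
    have h1 : 0 < min δ (ε - ‖ρ i b1 - i‖) := lt_min hδ (sub_pos.2 (hρ i b1).2)
    have h2 := exists_near_root hm hd hc b1 (ρ i b1) (hρ i b1).1 h1
    have h3 : ∀ᶠ b : V in 𝓝 b1, ∃ t, (P b).eval t = 0 ∧ ‖t - ρ i b1‖ < min δ (ε - ‖ρ i b1 - i‖) :=
      continuous_subtype_val.continuousAt.eventually h2
    filter_upwards [h3] with b hb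
    obtain ⟨t, ht, htb⟩ := hb
    have h4 : t = ρ i b := by
      refine huniq i b t ht ?_
      calc ‖t - i‖ = ‖(t - ρ i b1) + (ρ i b1 - i)‖ := by ring_nf
        _ ≤ ‖t - ρ i b1‖ + ‖ρ i b1 - i‖ := norm_add_le _ _
        _ < (ε - ‖ρ i b1 - i‖) + ‖ρ i b1 - i‖ := by
          have := htb.trans_le (min_le_right _ _)
          linarith
        _ = ε := by ring
    rw [dist_eq_norm, ← h4]
    exact htb.trans_le (min_le_left _ _)
  · intro b t ht
    obtain ⟨i, rfl⟩ := hall b t ht
    exact ⟨i, (hρ i b).2, fun j hj => Subtype.ext (hsep j j.2 i i.2 _ hj (hρ i b).2)⟩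

/-- The total space of roots. -/
abbrev Tot (P : B → ℂ[X]) : Type _ := {q : B × ℂ // (P q.1).eval q.2 = 0}

/-- The projection of the space of roots to the base. -/
def pr (P : B → ℂ[X]) (q : Tot P) : B := q.1.1

theorem isEvenlyCovered {P : B → ℂ[X]} {m : ℕ} (hm : ∀ b, (P b).Monic)
    (hd : ∀ b, (P b).natDegree = m) (hc : ∀ i, Continuous fun b => (P b).coeff i)
    (b0 : B) (hs : (P b0).Separable) :
    IsEvenlyCovered (pr P) b0 (P b0).roots.toFinset := by
  classical
  obtain ⟨V, ε, ρ, hVo, hbV, hε, hρc, hρ, hu, huniq⟩ := exists_local hm hd hc b0 hs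
  have hpr : Continuous (pr P) := continuous_fst.comp continuous_subtype_val
  refine ⟨inferInstance, V, hbV, hVo, hVo.preimage hpr, ?_⟩
  choose idx hidx hidx' using fun q : pr P ⁻¹' V => (hu ⟨pr P q.1, q.2⟩ q.1.1.2 q.1.2)
  have hcidx : Continuous idx := by
    rw [continuous_discrete_rng]
    intro i
    have : idx ⁻¹' {i} = {q : pr P ⁻¹' V | ‖q.1.1.2 - i‖ < ε} := by
      ext q
      simp only [Set.mem_preimage, Set.mem_singleton_iff, Set.mem_ofPred_eq]
      exact ⟨fun h => h ▸ hidx q, fun h => (hidx' q i h).symm⟩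
    rw [this]
    exact isOpen_lt (((continuous_snd.comp (continuous_subtype_val.comp
      continuous_subtype_val)).sub continuous_const).norm) continuous_const
  have hH : ∀ q : pr P ⁻¹' V, ρ (idx q) ⟨pr P q.1, q.2⟩ = q.1.1.2 := fun q =>
    (huniq (idx q) ⟨pr P q.1, q.2⟩ q.1.1.2 q.1.2 (hidx q)).symm
  refine ⟨{ toFun := fun q => (⟨pr P q.1, q.2⟩, idx q)
            invFun := fun x => ⟨⟨(x.1, ρ x.2 x.1), (hρ x.2 x.1).1⟩, x.1.2⟩
            left_inv := fun q => ?_
            right_inv := fun x => ?_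
            continuous_toFun := ?_
            continuous_invFun := ?_ }, fun q => rfl⟩
  · refine Subtype.ext (Subtype.ext (Prod.ext rfl (hH q)))
  · refine Prod.ext rfl ?_
    exact (hidx' _ x.2 (hρ x.2 x.1).2).symm
  · exact ((hpr.comp continuous_subtype_val).subtype_mk _).prodMk hcidx
  · refine Continuous.subtype_mk (Continuous.subtype_mk ?_ _) _
    refine (continuous_subtype_val.comp continuous_fst).prodMk ?_
    have : (fun x : V × (P b0).roots.toFinset => ρ x.2 x.1) =
        Function.uncurry (fun (i : (P b0).roots.toFinset) (b : V) => ρ i b) ∘ Prod.swap := rfl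
    rw [this]
    refine Continuous.comp ?_ continuous_swap
    exact continuous_prod_of_discrete_left.2 fun i => hρc i

/-- **Roots form a covering space** (over the set where the polynomial is separable). -/
theorem isCoveringMapOn_roots {P : B → ℂ[X]} {m : ℕ} (hm : ∀ b, (P b).Monic)
    (hd : ∀ b, (P b).natDegree = m) (hc : ∀ i, Continuous fun b => (P b).coeff i) (s : Set B)
    (hs : ∀ b ∈ s, (P b).Separable) : IsCoveringMapOn (pr P) s := fun b hb =>
  (isEvenlyCovered hm hd hc b (hs b hb)).to_isEvenlyCovered_preimage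

/-- **Roots form a covering space**. -/
theorem isCoveringMap_roots {P : B → ℂ[X]} {m : ℕ} (hm : ∀ b, (P b).Monic)
    (hd : ∀ b, (P b).natDegree = m) (hc : ∀ i, Continuous fun b => (P b).coeff i)
    (hs : ∀ b, (P b).Separable) : IsCoveringMap (pr P) :=
  isCoveringMap_iff_isCoveringMapOn_univ.2 (isCoveringMapOn_roots hm hd hc _ fun b _ => hs b)

/-- The fibre of the space of roots is the set of roots. -/
def fibreEquiv (P : B → ℂ[X]) (b : B) : (pr P ⁻¹' {b}) ≃ {t : ℂ // (P b).eval t = 0} where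
  toFun q := ⟨q.1.1.2, by
    have h := q.1.2
    have h' : q.1.1.1 = b := q.2
    rwa [h'] at h⟩
  invFun t := ⟨⟨(b, t.1), t.2⟩, rfl⟩
  left_inv q := by
    have h' : q.1.1.1 = b := q.2
    exact Subtype.ext (Subtype.ext (Prod.ext h'.symm rfl))
  right_inv t := rfl

theorem card_rootSubtype {P : ℂ[X]} (h0 : P ≠ 0) (hs : P.Separable) :
    Nat.card {t : ℂ // P.eval t = 0} = P.natDegree := by
  classical
  have e : {t : ℂ // P.eval t = 0} ≃ P.roots.toFinset :=
    Equiv.subtypeEquivRight fun t => by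
      rw [Multiset.mem_toFinset, Polynomial.mem_roots h0]; rfl
  rw [Nat.card_congr e, Nat.card_eq_fintype_card, Fintype.card_coe, card_roots hs]

omit [TopologicalSpace B] in
/-- All fibres have `m` elements. -/
theorem card_fibre {P : B → ℂ[X]} {m : ℕ} (hm : ∀ b, (P b).Monic)
    (hd : ∀ b, (P b).natDegree = m) (b : B) (hs : (P b).Separable) :
    Nat.card (pr P ⁻¹' {b}) = m := by
  rw [Nat.card_congr (fibreEquiv P b), card_rootSubtype (hm b).ne_zero hs, hd]

omit [TopologicalSpace B] in
theorem finite_fibre {P : B → ℂ[X]} (hm : ∀ b, (P b).Monic) (b : B) :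
    Finite (pr P ⁻¹' {b}) := by
  classical
  have e : {t : ℂ // (P b).eval t = 0} ≃ (P b).roots.toFinset :=
    Equiv.subtypeEquivRight fun t => by
      rw [Multiset.mem_toFinset, Polynomial.mem_roots (hm b).ne_zero]; rfl
  exact Finite.of_equiv _ ((fibreEquiv P b).trans e).symm

/-! ### Version with the coefficient vector -/

/-- `X^m + ∑ c_i X^i`. -/
noncomputable def poly {m : ℕ} (c : Fin m → ℂ) : ℂ[X] := X ^ m + ∑ i : Fin m, C (c i) * X ^ (i : ℕ)

theorem degree_sum_lt {m : ℕ} (c : Fin m → ℂ) :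
    (∑ i : Fin m, C (c i) * X ^ (i : ℕ) : ℂ[X]).degree < (m : WithBot ℕ) :=
  lt_of_le_of_lt (Polynomial.degree_sum_le _ _) ((Finset.sup_lt_iff (WithBot.bot_lt_coe m)).2
    fun i _ => lt_of_le_of_lt (Polynomial.degree_C_mul_X_pow_le (i : ℕ) (c i))
      (WithBot.coe_lt_coe.2 (Nat.cast_lt.2 i.2)))

theorem poly_monic {m : ℕ} (c : Fin m → ℂ) : (poly c).Monic :=
  Polynomial.monic_X_pow_add (degree_sum_lt c)

theorem poly_natDegree {m : ℕ} (c : Fin m → ℂ) : (poly c).natDegree = m := by
  refine Polynomial.natDegree_eq_of_degree_eq_some ?_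
  rw [poly, Polynomial.degree_add_eq_left_of_degree_lt (by simpa using degree_sum_lt c)]
  simp

theorem poly_coeff {m : ℕ} (c : Fin m → ℂ) (i : ℕ) :
    (poly c).coeff i = (if i = m then 1 else 0) + ∑ j : Fin m, if i = j then c j else 0 := by
  simp [poly, Polynomial.coeff_X_pow, Polynomial.finsetSum_coeff, Polynomial.coeff_C_mul]

theorem continuous_poly_coeff {m : ℕ} (c : B → Fin m → ℂ) (hc : Continuous c) (i : ℕ) :
    Continuous fun b => (poly (c b)).coeff i := by
  simp only [poly_coeff]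
  refine continuous_const.add (continuous_finsetSum _ fun j _ => ?_)
  split_ifs
  · exact (continuous_apply j).comp hc
  · exact continuous_const

/-- (ROOTCOV) -/
theorem isCoveringMap_poly {m : ℕ} (c : B → Fin m → ℂ) (hc : Continuous c)
    (hs : ∀ b, (poly (c b)).Separable) : IsCoveringMap (pr fun b => poly (c b)) :=
  isCoveringMap_roots (fun b => poly_monic (c b)) (fun b => poly_natDegree (c b))
    (continuous_poly_coeff c hc) hs

theorem isCoveringMapOn_poly {m : ℕ} (c : B → Fin m → ℂ) (hc : Continuous c) (s : Set B)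
    (hs : ∀ b ∈ s, (poly (c b)).Separable) : IsCoveringMapOn (pr fun b => poly (c b)) s :=
  isCoveringMapOn_roots (fun b => poly_monic (c b)) (fun b => poly_natDegree (c b))
    (continuous_poly_coeff c hc) s hs

end Groth.Agent.An.H526.RootCov
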