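import Groth.Agent.An.H526.T3Scheme
import Mathlib.AlgebraicGeometry.AffineSpace

/-!
# Noether normalization with monic discriminant, scheme form
-/

set_option autoImplicit false

universe u

open CategoryTheory CategoryTheory.Limits AlgebraicGeometry

namespace Groth.Agent.An.H526.T3

open Polynomial in
/-- `Spec K[x_1, …, x_d][T]`, affine `d + 1`-space with a chosen last coordinate `T`. -/
noncomputable abbrev AT (K : Type u) [Field K] (d : ℕ) : Scheme.{u} :=
  Spec (CommRingCat.of (MvPolynomial (Fin d) K)[X])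

/-- `Spec K[x_1, …, x_d]`. -/
noncomputable abbrev AS (K : Type u) [Field K] (d : ℕ) : Scheme.{u} :=
  Spec (CommRingCat.of (MvPolynomial (Fin d) K))

/-- The projection forgetting the last coordinate. -/
noncomputable abbrev prS (K : Type u) [Field K] (d : ℕ) : AT K d ⟶ AS K d :=
  Spec.map (CommRingCat.ofHom (Polynomial.C : MvPolynomial (Fin d) K →+* _))

/-- The structure morphism of affine space. -/
noncomputable abbrev strS (K : Type u) [Field K] (d : ℕ) : AS K d ⟶ Spec (CommRingCat.of K) :=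
  Spec.map (CommRingCat.ofHom (MvPolynomial.C : K →+* MvPolynomial (Fin d) K))

/-- Étaleness over a basic open of `Spec R`. -/
theorem etale_specMap_restrict {R A : CommRingCat.{u}} (φ : R ⟶ A) (r : R)
    (h : ((algebraMap A (Localization.Away (φ.hom r))).comp φ.hom).Etale) :
    Etale (Spec.map φ ∣_ (PrimeSpectrum.basicOpen r : (Spec R).Opens)) := by
  set V : (Spec R).Opens := PrimeSpectrum.basicOpen r
  have hV : (Spec.map φ) ⁻¹ᵁ V = (PrimeSpectrum.basicOpen (φ.hom r) : (Spec A).Opens) := rfl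
  have h2 : Etale (((Spec.map φ) ⁻¹ᵁ V).ι ≫ Spec.map φ) := by
    let j : Spec (CommRingCat.of (Localization.Away (φ.hom r))) ⟶ Spec A :=
      Spec.map (CommRingCat.ofHom (algebraMap A (Localization.Away (φ.hom r))))
    have hj : Etale (j ≫ Spec.map φ) := by
      have h1 := (HasRingHomProperty.Spec_iff (P := @Etale)
        (φ := φ ≫ CommRingCat.ofHom (algebraMap A (Localization.Away (φ.hom r))))).2 h
      rwa [Spec.map_comp] at h1
    have hjo : IsOpenImmersion j := inferInstance
    have hr : Set.range j = Set.range ((Spec.map φ) ⁻¹ᵁ V).ι := by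
      rw [Scheme.Opens.range_ι, hV]
      exact PrimeSpectrum.localization_away_comap_range _ (φ.hom r)
    let e := IsOpenImmersion.isoOfRangeEq j ((Spec.map φ) ⁻¹ᵁ V).ι hr
    have he : ((Spec.map φ) ⁻¹ᵁ V).ι = e.inv ≫ j := by
      rw [IsOpenImmersion.isoOfRangeEq_inv_fac]
    rw [he, Category.assoc]
    infer_instance
  have h4 : Etale ((Spec.map φ ∣_ V) ≫ V.ι) := by rw [morphismRestrict_ι]; exact h2
  exact Etale.of_comp _ V.ι

/-- Noether normalization with monic discriminant. -/
theorem exists_noether (K : Type u) [Field K] [CharZero K] (d : ℕ) (X : Scheme.{u}) [IsAffine X]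
    [IsReduced X] (s : X ⟶ Spec (CommRingCat.of K)) [LocallyOfFiniteType s]
    (hd : topologicalKrullDim X ≤ (d + 1 : ℕ)) :
    ∃ (π : X ⟶ AT K d) (Δ : Polynomial (MvPolynomial (Fin d) K)), IsFinite π ∧ Δ.Monic ∧
      π ≫ prS K d ≫ strS K d = s ∧
      Etale (π ∣_ (PrimeSpectrum.basicOpen Δ : (AT K d).Opens)) := by
  let ψ : CommRingCat.of K ⟶ Γ(X, ⊤) := Spec.preimage (inv X.toSpecΓ ≫ s)
  have hψ : X.toSpecΓ ≫ Spec.map ψ = s := by
    rw [Spec.map_preimage, IsIso.hom_inv_id_assoc]
  have hft : ψ.hom.FiniteType := by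
    have h1 : LocallyOfFiniteType (Spec.map ψ) := by
      rw [Spec.map_preimage]; infer_instance
    exact (HasRingHomProperty.Spec_iff (P := @LocallyOfFiniteType)).1 h1
  let _ : Algebra K Γ(X, ⊤) := ψ.hom.toAlgebra
  have : Algebra.FiniteType K Γ(X, ⊤) := hft
  have hdim : ringKrullDim Γ(X, ⊤) ≤ (d + 1 : ℕ) := by
    rw [← PrimeSpectrum.topologicalKrullDim_eq_ringKrullDim]
    change topologicalKrullDim (Spec Γ(X, ⊤)) ≤ _
    rw [← IsHomeomorph.topologicalKrullDim_eq _ X.isoSpec.hom.homeomorph.isHomeomorph]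
    exact hd
  obtain ⟨g, Δ, hg, hΔ, het⟩ := exists_noether_etale K d Γ(X, ⊤) hdim
  let φ : CommRingCat.of (Polynomial (MvPolynomial (Fin d) K)) ⟶ Γ(X, ⊤) :=
    CommRingCat.ofHom g.toRingHom
  have hφ : Etale (Spec.map φ ∣_ (PrimeSpectrum.basicOpen Δ : (AT K d).Opens)) :=
    etale_specMap_restrict φ Δ (het _ dvd_rfl)
  refine ⟨X.toSpecΓ ≫ Spec.map φ, Δ, ?_, hΔ, ?_, ?_⟩
  · have : IsFinite (Spec.map φ) := (IsFinite.SpecMap_iff _).2 hg
    infer_instance
  · rw [Category.assoc, ← Spec.map_comp_assoc, ← Spec.map_comp, ← hψ]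
    congr 2
    ext x
    exact g.commutes x
  · rw [morphismRestrict_comp]
    have h1 : Etale (X.toSpecΓ ∣_ (Spec.map φ ⁻¹ᵁ (PrimeSpectrum.basicOpen Δ : (AT K d).Opens))) :=
      inferInstance
    exact MorphismProperty.comp_mem _ _ _ h1 hφ

/-- The zero scheme of a monic polynomial is finite over the base. -/
theorem isFinite_of_monic {R : Type u} [CommRing R] (Δ : Polynomial R) (hΔ : Δ.Monic) :
    IsFinite (Spec.map (CommRingCat.ofHom (Ideal.Quotient.mk (Ideal.span {Δ}))) ≫
      Spec.map (CommRingCat.ofHom (Polynomial.C : R →+* Polynomial R))) := by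
  rw [← Spec.map_comp, IsFinite.SpecMap_iff]
  have h1 : Module.Finite R (Polynomial R ⧸ Ideal.span {Δ}) := hΔ.finite_quotient
  have h2 : (algebraMap R (Polynomial R ⧸ Ideal.span {Δ})).Finite := RingHom.finite_algebraMap.mpr h1
  exact h2

end Groth.Agent.An.H526.T3
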