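import Groth.Agent.Pi1A.SpreadFEt2
import Mathlib.RingTheory.Etale.Field
import Mathlib.RingTheory.Artinian.Module
import Mathlib.RingTheory.LocalProperties.Reduced
import Mathlib.RingTheory.Localization.Finiteness

/-!
# Generic étaleness of finite algebras in characteristic zero

`R` a Noetherian domain of characteristic zero, `B` a finite reduced `R`-algebra.  Then there is a
nonzero `f : R` such that `B_f` is étale over `R`.
-/

set_option autoImplicit false

namespace Groth.Agent.An.H526.T3

open Polynomial

/-- A reduced finite algebra over a field of characteristic zero is étale. -/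
theorem formallyEtale_of_isReduced_finite (K : Type*) {A : Type*} [Field K] [CharZero K]
    [CommRing A] [Algebra K A] [Module.Finite K A] [IsReduced A] : Algebra.FormallyEtale K A := by
  have : IsArtinianRing A := IsArtinianRing.of_finite K A
  have h1 : ∀ I : MaximalSpectrum A, Algebra.FormallyEtale K (A ⧸ I.asIdeal) := by
    intro I
    let _ : Field (A ⧸ I.asIdeal) := Ideal.Quotient.field _
    have : Module.Finite K (A ⧸ I.asIdeal) := inferInstance
    have : Algebra.IsSeparable K (A ⧸ I.asIdeal) := inferInstance
    exact Algebra.FormallyEtale.of_isSeparable K (A ⧸ I.asIdeal)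
  exact .of_equiv ((IsArtinianRing.equivPi A).restrictScalars K).symm

/-- Generic étaleness of a reduced finite algebra over a Noetherian domain of char. zero. -/
theorem exists_etale_away_of_isReduced {R B : Type*} [CommRing R] [IsDomain R] [IsNoetherianRing R]
    [CharZero R] [CommRing B] [Algebra R B] [Module.Finite R B] [IsReduced B] :
    ∃ f : R, f ≠ 0 ∧ Algebra.Etale R (Localization.Away (algebraMap R B f)) := by
  have : CharZero (Localization (nonZeroDivisors R)) :=
    charZero_of_injective_algebraMap (IsFractionRing.injective R (FractionRing R))
  let _ : Field (Localization (nonZeroDivisors R)) := inferInstanceAs (Field (FractionRing R))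
  have : Module.Finite (Localization (nonZeroDivisors R))
      (Localization (Algebra.algebraMapSubmonoid B (nonZeroDivisors R))) :=
    Module.Finite.of_isLocalization R B (nonZeroDivisors R)
  have h1 : Algebra.FormallyEtale (Localization (nonZeroDivisors R))
    (Localization (Algebra.algebraMapSubmonoid B (nonZeroDivisors R))) :=
    formallyEtale_of_isReduced_finite _
  have h2 : Algebra.FormallyEtale R (Localization (nonZeroDivisors R)) :=
    Algebra.FormallyEtale.of_isLocalization (nonZeroDivisors R)
  have h3 : Algebra.FormallyEtale R
      (Localization (Algebra.algebraMapSubmonoid B (nonZeroDivisors R))) :=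
    Algebra.FormallyEtale.comp R (Localization (nonZeroDivisors R)) _
  have : Algebra.FinitePresentation R B := Algebra.FinitePresentation.of_finiteType.1 inferInstance
  obtain ⟨f, hf, h⟩ := Pi1A.SpreadFEt.exists_etale_away (R := R) (B := B)
    (Localization (Algebra.algebraMapSubmonoid B (nonZeroDivisors R))) (nonZeroDivisors R)
  exact ⟨f, nonZeroDivisors.ne_zero hf, h⟩

end Groth.Agent.An.H526.T3
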