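import Groth.Agent.An.H526.T3Gen
import Groth.Agent.CalgB.NagataT
import Groth.Agent.CalgC.DimFT
import Mathlib.RingTheory.RingHom.Etale

/-!
# Noether normalization with discriminant monic in the last variable (ring form)

`K` a field of characteristic zero, `A` a reduced `K`-algebra of finite type with `dim A ≤ d + 1`.
Then there are a finite `K`-algebra map `g : K[x_1, …, x_d][T] → A` and a monic `Δ` in
`K[x_1, …, x_d][T]` such that `A_{g Δ}` is étale over `K[x_1, …, x_d][T]`.
-/

set_option autoImplicit false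

universe u

namespace Groth.Agent.An.H526.T3

open Polynomial

/-- `K[x_1, …, x_n] → K[x_1, …, x_s]`, surjective for `s ≤ n`. -/
theorem exists_surjective_mvPolynomial (K : Type*) [Field K] {s n : ℕ} (h : s ≤ n) :
    ∃ g : MvPolynomial (Fin n) K →ₐ[K] MvPolynomial (Fin s) K, Function.Surjective g := by
  refine ⟨MvPolynomial.aeval fun i => if hi : i.1 < s then MvPolynomial.X ⟨i.1, hi⟩ else 0, ?_⟩
  rw [← AlgHom.range_eq_top, eq_top_iff, ← MvPolynomial.adjoin_range_X, Algebra.adjoin_le_iff]
  rintro _ ⟨j, rfl⟩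
  refine ⟨MvPolynomial.X ⟨j.1, j.2.trans_le h⟩, ?_⟩
  simp

theorem ringKrullDim_mvPolynomial_field (K : Type*) [Field K] (d : ℕ) :
    ringKrullDim (MvPolynomial (Fin d) K) = d := by
  rw [MvPolynomial.ringKrullDim_of_isNoetherianRing, ringKrullDim_eq_zero_of_field]
  simp

/-- Noether normalization with prescribed number of variables `n ≥ dim A`. -/
theorem exists_finite_algHom (K : Type*) [Field K] (n : ℕ) (A : Type*) [CommRing A] [Algebra K A]
    [Algebra.FiniteType K A] (hd : ringKrullDim A ≤ (n : ℕ)) :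
    ∃ g : MvPolynomial (Fin n) K →ₐ[K] A, g.Finite := by
  rcases subsingleton_or_nontrivial A with hA | hA
  · refine ⟨MvPolynomial.aeval fun _ => 0, ?_⟩
    exact RingHom.Finite.of_surjective _ fun x => ⟨0, Subsingleton.elim _ _⟩
  · obtain ⟨s, g, hg, hgf⟩ := exists_finite_inj_algHom_of_fg K A
    have hs : s ≤ n := by
      algebraize [g.toRingHom]
      have : Module.Finite (MvPolynomial (Fin s) K) A := hgf
      have : Algebra.IsIntegral (MvPolynomial (Fin s) K) A := inferInstance
      have hfs : FaithfulSMul (MvPolynomial (Fin s) K) A :=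
        (faithfulSMul_iff_algebraMap_injective _ _).mpr hg
      have h1 := CalgC.DimFT.ringKrullDim_eq_of_isIntegral (R := MvPolynomial (Fin s) K) (S := A)
      rw [ringKrullDim_mvPolynomial_field] at h1
      have h2 : ((s : ℕ) : WithBot ℕ∞) ≤ ((n : ℕ) : WithBot ℕ∞) := by
        first | exact h1.le.trans hd | exact h1.ge.trans hd
      exact_mod_cast h2
    obtain ⟨p, hp⟩ := exists_surjective_mvPolynomial K hs
    exact ⟨g.comp p, RingHom.Finite.comp hgf (RingHom.Finite.of_surjective _ hp)⟩

/-- Generic étaleness in terms of ring homomorphisms. -/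
theorem exists_etale_of_finite {R B : Type*} [CommRing R] [IsDomain R] [IsNoetherianRing R]
    [CharZero R] [CommRing B] [IsReduced B] (g : R →+* B) (hg : g.Finite) :
    ∃ f : R, f ≠ 0 ∧ ∀ b : B, g f ∣ b → ((algebraMap B (Localization.Away b)).comp g).Etale := by
  let _ : Algebra R B := g.toAlgebra
  have : Module.Finite R B := hg
  obtain ⟨f, hf0, hf⟩ := exists_etale_away_of_isReduced (R := R) (B := B)
  refine ⟨f, hf0, fun b hb => ?_⟩
  have h1 : (algebraMap R (Localization.Away b)).Etale :=
    RingHom.etale_algebraMap.mpr (Pi1A.SpreadFEt.etale_away_of_dvd hb hf)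
  rwa [IsScalarTower.algebraMap_eq R B (Localization.Away b)] at h1

/-- Noether normalization, generically étale, with "discriminant" monic in the last variable. -/
theorem exists_noether_etale (K : Type u) [Field K] [CharZero K] (d : ℕ) (A : Type u) [CommRing A]
    [Algebra K A] [Algebra.FiniteType K A] [IsReduced A] (hd : ringKrullDim A ≤ (d + 1 : ℕ)) :
    ∃ (g : (MvPolynomial (Fin d) K)[X] →ₐ[K] A) (Δ : (MvPolynomial (Fin d) K)[X]),
      g.Finite ∧ Δ.Monic ∧ ∀ b : A, g Δ ∣ b →
        ((algebraMap A (Localization.Away b)).comp (g : (MvPolynomial (Fin d) K)[X] →+* A)).Etale := by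
  obtain ⟨g, hg⟩ := exists_finite_algHom K (d + 1) A hd
  have : CharZero (MvPolynomial (Fin (d + 1)) K) :=
    charZero_of_injective_algebraMap (MvPolynomial.C_injective (Fin (d + 1)) K)
  obtain ⟨f, hf0, hf⟩ := exists_etale_of_finite (g : MvPolynomial (Fin (d + 1)) K →+* A) hg
  obtain ⟨T, hT⟩ := CalgB.NagataT.exists_algEquiv_isUnit_leadingCoeff f hf0
  let e : MvPolynomial (Fin (d + 1)) K ≃ₐ[K] (MvPolynomial (Fin d) K)[X] :=
    T.trans (MvPolynomial.finSuccEquiv K d)
  have hmon : (hT.unit⁻¹ • e f).Monic := Polynomial.monic_of_isUnit_leadingCoeff_inv_smul hT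
  refine ⟨g.comp (e.symm : (MvPolynomial (Fin d) K)[X] →ₐ[K] MvPolynomial (Fin (d + 1)) K),
    hT.unit⁻¹ • e f, ?_, hmon, fun b hb => ?_⟩
  · exact RingHom.Finite.comp hg (RingHom.Finite.of_surjective _ e.symm.surjective)
  · have h1 := hf b ?_
    · have h0 : RingHom.Etale (e.symm : (MvPolynomial (Fin d) K)[X] →+*
          MvPolynomial (Fin (d + 1)) K) := RingHom.Etale.of_bijective e.symm.bijective
      exact RingHom.Etale.stableUnderComposition (e.symm : (MvPolynomial (Fin d) K)[X] →+*
          MvPolynomial (Fin (d + 1)) K) ((algebraMap A (Localization.Away b)).comp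
            (g : MvPolynomial (Fin (d + 1)) K →+* A)) h0 h1
    · refine dvd_trans ?_ hb
      rw [AlgHom.comp_apply]
      refine map_dvd (g : MvPolynomial (Fin (d + 1)) K →+* A) ?_
      have h2 : e f ∣ hT.unit⁻¹ • e f := by
        rw [Units.smul_def, Polynomial.smul_eq_C_mul]
        exact dvd_mul_left _ _
      have h3 := map_dvd (e.symm : (MvPolynomial (Fin d) K)[X] →+* MvPolynomial (Fin (d + 1)) K) h2
      simpa using h3

end Groth.Agent.An.H526.T3
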