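import Groth.Agent.An.H526.T3Noether
import Mathlib.AlgebraicGeometry.Morphisms.Etale
import Mathlib.AlgebraicGeometry.Morphisms.Finite

/-!
# Generic étaleness of finite morphisms in characteristic zero (scheme form)
-/

set_option autoImplicit false

universe u

open CategoryTheory CategoryTheory.Limits AlgebraicGeometry

namespace Groth.Agent.An.H526.T3

/-- Étaleness of the restriction of an affine morphism over a basic open of an affine open. -/
theorem etale_morphismRestrict_basicOpen {W Z : Scheme.{u}} (f : W ⟶ Z) [IsAffineHom f]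
    (U : Z.Opens) (hU : IsAffineOpen U) (r : Γ(Z, U))
    (h : ((algebraMap Γ(W, f ⁻¹ᵁ U) (Localization.Away (f.app U r))).comp (f.app U).hom).Etale) :
    Etale (f ∣_ Z.basicOpen r) := by
  have hW : IsAffineOpen (f ⁻¹ᵁ U) := hU.preimage f
  set V := Z.basicOpen r with hV
  have hWV : f ⁻¹ᵁ V = W.basicOpen (f.app U r) := Scheme.preimage_basicOpen f r
  have hVaff : IsAffineOpen (f ⁻¹ᵁ V) := by rw [hWV]; exact hW.basicOpen _
  have hle : f ⁻¹ᵁ V ≤ f ⁻¹ᵁ U := f.preimage_mono (Z.basicOpen_le r)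
  -- the ring map to the sections over `f⁻¹ V`
  have h1 : (f.appLE U (f ⁻¹ᵁ V) hle).hom.Etale := by
    let _ : Algebra Γ(W, f ⁻¹ᵁ U) Γ(W, f ⁻¹ᵁ V) := (W.presheaf.map (homOfLE hle).op).hom.toAlgebra
    have hloc : IsLocalization.Away (f.app U r) Γ(W, f ⁻¹ᵁ V) :=
      hW.isLocalization_of_eq_basicOpen (f.app U r) (homOfLE hle) hWV
    let e : Localization.Away (f.app U r) ≃ₐ[Γ(W, f ⁻¹ᵁ U)] Γ(W, f ⁻¹ᵁ V) :=
      IsLocalization.algEquiv (Submonoid.powers (f.app U r)) _ _
    have h2 := RingHom.Etale.respectsIso.1 _ e.toRingEquiv h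
    convert h2 using 1
    ext x
    change (f.appLE U (f ⁻¹ᵁ V) hle).hom x = e (algebraMap _ _ ((f.app U).hom x))
    rw [e.commutes]
    rw [Scheme.Hom.appLE]
    rfl
  have h2 : Etale ((f ⁻¹ᵁ V).ι ≫ f) := by
    have h5 : Etale (Spec.map (f.appLE U (f ⁻¹ᵁ V) hle)) :=
      (HasRingHomProperty.Spec_iff (P := @Etale)).2 h1
    have h6 : Etale (hVaff.fromSpec ≫ f) := by
      rw [← hU.SpecMap_appLE_fromSpec f hVaff hle]
      infer_instance
    have h7 : (f ⁻¹ᵁ V).ι = hVaff.isoSpec.hom ≫ hVaff.fromSpec := by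
      rw [hVaff.isoSpec_hom_fromSpec]
    rw [h7, Category.assoc]
    infer_instance
  have h3 : (f ∣_ V) ≫ V.ι = (f ⁻¹ᵁ V).ι ≫ f := morphismRestrict_ι f V
  have h4 : Etale ((f ∣_ V) ≫ V.ι) := by rw [h3]; exact h2
  exact Etale.of_comp _ V.ι

/-- Étaleness over an open passes to smaller opens. -/
theorem etale_morphismRestrict_of_le {W Z : Scheme.{u}} (f : W ⟶ Z) {U V : Z.Opens} (h : V ≤ U)
    (hU : Etale (f ∣_ U)) : Etale (f ∣_ V) := by
  have h1 : (f ∣_ V) ≫ V.ι = W.homOfLE (f.preimage_mono h) ≫ (f ∣_ U) ≫ U.ι := by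
    rw [morphismRestrict_ι, morphismRestrict_ι, Scheme.homOfLE_ι_assoc]
  have h2 : Etale ((f ∣_ V) ≫ V.ι) := by rw [h1]; infer_instance
  exact Etale.of_comp _ V.ι

/-- The sections of a nonempty open of a scheme over a field of characteristic zero form a ring of
characteristic zero. -/
theorem charZero_section {k : Type u} [Field k] [CharZero k] {Z : Scheme.{u}}
    (s : Z ⟶ Spec (CommRingCat.of k)) (U : Z.Opens) [Nonempty U] : CharZero Γ(Z, U) := by
  let φ : k →+* Γ(Z, U) := (s.appLE ⊤ U le_top).hom.comp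
    (Scheme.ΓSpecIso (CommRingCat.of k)).inv.hom
  have : Nontrivial Γ(Z, U) := inferInstance
  exact charZero_of_injective_ringHom φ.injective

/-- Generic étaleness of a finite morphism from a reduced scheme to an integral scheme locally of
finite type over a field of characteristic zero. -/
theorem exists_open_etale {k : Type u} [Field k] [CharZero k] {W Z : Scheme.{u}}
    (s : Z ⟶ Spec (CommRingCat.of k)) [LocallyOfFiniteType s] [IsIntegral Z] [IsReduced W]
    (f : W ⟶ Z) [IsFinite f] :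
    ∃ Z0 : Z.Opens, IsAffineOpen Z0 ∧ (Z0 : Set Z).Nonempty ∧
      ∀ V : Z.Opens, V ≤ Z0 → Etale (f ∣_ V) := by
  obtain ⟨z⟩ := (inferInstance : Nonempty Z)
  obtain ⟨_, ⟨U, hU, rfl⟩, hzU, -⟩ :=
    Z.isBasis_affineOpens.exists_subset_of_mem_open (Set.mem_univ z) isOpen_univ
  have hne : Nonempty U := ⟨⟨z, hzU⟩⟩
  have hnoe : IsLocallyNoetherian Z := LocallyOfFiniteType.isLocallyNoetherian s
  have : IsNoetherianRing Γ(Z, U) := IsLocallyNoetherian.component_noetherian ⟨U, hU⟩
  have : CharZero Γ(Z, U) := charZero_section s U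
  have hfin : (f.app U).hom.Finite := IsFinite.finite_app f U hU
  obtain ⟨r, hr0, hr⟩ := exists_etale_of_finite (f.app U).hom hfin
  refine ⟨Z.basicOpen r, hU.basicOpen r, ?_, fun V hV =>
    etale_morphismRestrict_of_le f hV (etale_morphismRestrict_basicOpen f U hU r (hr _ dvd_rfl))⟩
  rw [Set.nonempty_iff_ne_empty]
  intro h
  apply hr0
  exact (AlgebraicGeometry.basicOpen_eq_bot_iff r).1 (TopologicalSpace.Opens.ext h)

end Groth.Agent.An.H526.T3
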